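import Mathlib

/-! The cokernel of a left invertible map is projective. -/

set_option autoImplicit false

universe u v w

namespace Groth.Agent.LeftInvLib

variable {A : Type u} [CommRing A] {M : Type v} [AddCommGroup M] [Module A M] {N : Type w} [AddCommGroup N] [Module A N]

theorem projective_retract (C : Type w) [AddCommGroup C] [Module A C] (J : Ideal A)
    [Module.Projective (A ⧸ J) (N ⧸ (J • (⊤ : Submodule A N)))]
    (s : (C ⧸ (J • ⊤ : Submodule A C)) →ₗ[A] N ⧸ (J • ⊤ : Submodule A N))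
    (p : (N ⧸ (J • ⊤ : Submodule A N)) →ₗ[A] C ⧸ (J • ⊤ : Submodule A C))
    (hps : ∀ x, p (s x) = x) : Module.Projective (A ⧸ J) (C ⧸ (J • (⊤ : Submodule A C))) := by
  let s' : (C ⧸ (J • ⊤ : Submodule A C)) →ₗ[A ⧸ J] N ⧸ (J • ⊤ : Submodule A N) :=
    s.extendScalarsOfSurjective Ideal.Quotient.mk_surjective
  let p' : (N ⧸ (J • ⊤ : Submodule A N)) →ₗ[A ⧸ J] C ⧸ (J • ⊤ : Submodule A C) :=
    p.extendScalarsOfSurjective Ideal.Quotient.mk_surjective
  exact Module.Projective.of_split s' p' (LinearMap.ext hps)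

theorem projective_coker (u : M →ₗ[A] N) (J : Ideal A)
    [Module.Projective (A ⧸ J) (N ⧸ (J • (⊤ : Submodule A N)))]
    (w : N →ₗ[A] M ⧸ (J • ⊤ : Submodule A M)) (hw : ∀ x, w (u x) = Submodule.Quotient.mk x) :
    Module.Projective (A ⧸ J)
      ((N ⧸ LinearMap.range u) ⧸ (J • (⊤ : Submodule A (N ⧸ LinearMap.range u)))) := by
  let uJ : (M ⧸ (J • ⊤ : Submodule A M)) →ₗ[A] N ⧸ (J • ⊤ : Submodule A N) :=
    Submodule.mapQ _ _ u (Submodule.smul_le.2 fun a ha y _ => by
      rw [Submodule.mem_comap, map_smul]; exact Submodule.smul_mem_smul ha trivial)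
  let s0 : N →ₗ[A] N ⧸ (J • ⊤ : Submodule A N) := (J • ⊤ : Submodule A N).mkQ - uJ ∘ₗ w
  have hs0 : LinearMap.range u ≤ LinearMap.ker s0 := by
    rintro _ ⟨x, rfl⟩
    rw [LinearMap.mem_ker, LinearMap.sub_apply, LinearMap.comp_apply, hw]
    exact sub_self (Submodule.Quotient.mk (u x) : N ⧸ (J • ⊤ : Submodule A N))
  let s1 := Submodule.liftQ _ s0 hs0
  have hs1 : (J • ⊤ : Submodule A (N ⧸ LinearMap.range u)) ≤ LinearMap.ker s1 := Submodule.smul_le.2 fun a ha y _ => by
    rw [LinearMap.mem_ker, map_smul]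
    obtain ⟨z, hz⟩ := Submodule.Quotient.mk_surjective (J • ⊤ : Submodule A N) (s1 y)
    rw [← hz, ← Submodule.Quotient.mk_smul, Submodule.Quotient.mk_eq_zero]
    exact Submodule.smul_mem_smul ha trivial
  let p : (N ⧸ (J • ⊤ : Submodule A N)) →ₗ[A]
      (N ⧸ LinearMap.range u) ⧸ (J • ⊤ : Submodule A (N ⧸ LinearMap.range u)) :=
    Submodule.mapQ _ _ (LinearMap.range u).mkQ (Submodule.smul_le.2 fun a ha y _ => by
      rw [Submodule.mem_comap, map_smul]; exact Submodule.smul_mem_smul ha trivial)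
  refine projective_retract (N ⧸ LinearMap.range u) J (Submodule.liftQ _ s1 hs1) p fun x => ?_
  obtain ⟨x, rfl⟩ := Submodule.Quotient.mk_surjective _ x
  obtain ⟨x, rfl⟩ := Submodule.Quotient.mk_surjective _ x
  obtain ⟨z, hz⟩ := Submodule.Quotient.mk_surjective (J • ⊤ : Submodule A M) (w x)
  rw [Submodule.liftQ_apply, Submodule.liftQ_apply]
  show p (Submodule.Quotient.mk x - uJ (w x)) = _
  rw [← hz, Submodule.mapQ_apply, ← Submodule.Quotient.mk_sub, Submodule.mapQ_apply, map_sub,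
    show (LinearMap.range u).mkQ (u z) = 0 from (Submodule.Quotient.mk_eq_zero _).2 ⟨z, rfl⟩, sub_zero]
  rfl

end Groth.Agent.LeftInvLib
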