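import Mathlib

/-! Left inverses lift along nilpotent ideals. -/

set_option autoImplicit false

universe u v w

namespace Groth.Agent.LeftInvLib

variable {A : Type u} [CommRing A] {M : Type v} [AddCommGroup M] [Module A M] {N : Type w} [AddCommGroup N] [Module A N]

theorem exists_leftInverse_quot (u : M →ₗ[A] N) (L J : Ideal A) {n : ℕ} (hn : L ^ n ≤ J)
    [Module.Projective (A ⧸ J) (N ⧸ (J • (⊤ : Submodule A N)))]
    (w : N →ₗ[A] M ⧸ (L • ⊤ : Submodule A M)) (hw : ∀ x, w (u x) = Submodule.Quotient.mk x) :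
    ∃ w' : N →ₗ[A] M ⧸ (J • ⊤ : Submodule A M), ∀ x, w' (u x) = Submodule.Quotient.mk x := by
  let K : Submodule A M := (J ⊔ L) • ⊤
  let MJ := M ⧸ (J • ⊤ : Submodule A M)
  have hJK : (J • ⊤ : Submodule A M) ≤ K := Submodule.smul_mono_left le_sup_left
  have hLK : (L • ⊤ : Submodule A M) ≤ K := Submodule.smul_mono_left le_sup_right
  let P : Submodule A MJ := K.map (J • ⊤ : Submodule A M).mkQ
  let π : MJ →ₗ[A] M ⧸ K := Submodule.factor hJK
  let g0 : N →ₗ[A] M ⧸ K := (Submodule.factor hLK) ∘ₗ w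
  have hker : (J • ⊤ : Submodule A N) ≤ LinearMap.ker g0 := by
    refine Submodule.smul_le.2 fun a ha y _ => ?_
    rw [LinearMap.mem_ker, map_smul]
    obtain ⟨z, hz⟩ := Submodule.Quotient.mk_surjective K (g0 y)
    rw [← hz, ← Submodule.Quotient.mk_smul, Submodule.Quotient.mk_eq_zero]
    exact hJK (Submodule.smul_mem_smul ha trivial)
  let g1 : N ⧸ (J • ⊤ : Submodule A N) →ₗ[A] M ⧸ K := Submodule.liftQ _ g0 hker
  have hP : ∀ y, π y = 0 ↔ y ∈ P := by
    intro y
    obtain ⟨y, rfl⟩ := Submodule.Quotient.mk_surjective _ y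
    constructor
    · intro h
      exact ⟨y, (Submodule.Quotient.mk_eq_zero K).1 h, rfl⟩
    · rintro ⟨z, hz, hzy⟩
      show π (Submodule.Quotient.mk y) = 0
      rw [← hzy]
      exact (Submodule.Quotient.mk_eq_zero K).2 hz
  letI : Module (A ⧸ J) (MJ ⧸ P) := (show Module.IsTorsionBySet A (MJ ⧸ P) (J : Set A) from fun q a => by
    obtain ⟨q, rfl⟩ := Submodule.Quotient.mk_surjective _ q
    obtain ⟨q, rfl⟩ := Submodule.Quotient.mk_surjective _ q
    rw [← Submodule.Quotient.mk_smul, ← Submodule.Quotient.mk_smul,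
      (Submodule.Quotient.mk_eq_zero (J • ⊤ : Submodule A M)).2 (Submodule.smul_mem_smul a.2 trivial),
      Submodule.Quotient.mk_zero]).module
  haveI : IsScalarTower A (A ⧸ J) (MJ ⧸ P) := Module.IsTorsionBySet.isScalarTower _
  let e : (M ⧸ K) →ₗ[A] MJ ⧸ P := Submodule.mapQ K P (J • ⊤ : Submodule A M).mkQ
    (fun z hz => ⟨z, hz, rfl⟩)
  let g2 : N ⧸ (J • ⊤ : Submodule A N) →ₗ[A ⧸ J] MJ ⧸ P :=
    (e ∘ₗ g1).extendScalarsOfSurjective Ideal.Quotient.mk_surjective
  let q2 : MJ →ₗ[A ⧸ J] MJ ⧸ P := P.mkQ.extendScalarsOfSurjective Ideal.Quotient.mk_surjective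
  obtain ⟨w1, hw1⟩ := Module.projective_lifting_property q2 g2 P.mkQ_surjective
  let w0 : N →ₗ[A] MJ := w1.restrictScalars A ∘ₗ (J • ⊤ : Submodule A N).mkQ
  have huJ : (J • ⊤ : Submodule A M) ≤ LinearMap.ker (w0 ∘ₗ u) := by
    refine Submodule.smul_le.2 fun a ha y _ => ?_
    rw [LinearMap.mem_ker, map_smul]
    obtain ⟨z, hz⟩ := Submodule.Quotient.mk_surjective (J • ⊤ : Submodule A M) ((w0 ∘ₗ u) y)
    rw [← hz, ← Submodule.Quotient.mk_smul, Submodule.Quotient.mk_eq_zero]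
    exact Submodule.smul_mem_smul ha trivial
  let T : MJ →ₗ[A] MJ := Submodule.liftQ _ (w0 ∘ₗ u) huJ
  let ε : Module.End A MJ := T - LinearMap.id
  have hPL : P = L • (⊤ : Submodule A MJ) := by
    show ((J ⊔ L) • (⊤ : Submodule A M)).map (J • ⊤ : Submodule A M).mkQ = _
    rw [Submodule.sup_smul, Submodule.map_sup, Submodule.mkQ_map_self, bot_sup_eq, Submodule.map_smul'',
      Submodule.map_top, Submodule.range_mkQ]
  have hε : ∀ y, ε y ∈ (L • ⊤ : Submodule A MJ) := by
    intro y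
    rw [← hPL]
    obtain ⟨y, rfl⟩ := Submodule.Quotient.mk_surjective _ y
    rw [← Submodule.Quotient.mk_eq_zero (p := P)]
    have h1 : q2 (w1 (Submodule.Quotient.mk (u y))) = g2 (Submodule.Quotient.mk (u y)) := LinearMap.congr_fun hw1 _
    show Submodule.Quotient.mk (w1 (Submodule.Quotient.mk (u y)) - Submodule.Quotient.mk y) = (0 : MJ ⧸ P)
    rw [Submodule.Quotient.mk_sub, sub_eq_zero]
    refine h1.trans ?_
    show e (Submodule.factor hLK (w (u y))) = _
    rw [hw]
    rfl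
  have hpow : ∀ k y, (ε ^ k) y ∈ (L ^ k • ⊤ : Submodule A MJ) := by
    intro k
    induction k with
    | zero => intro y; rw [pow_zero, pow_zero, Ideal.one_eq_top, Submodule.top_smul]; trivial
    | succ k ih =>
      intro y
      have hmap : Submodule.map (ε ^ k) (L • ⊤ : Submodule A MJ) ≤ L ^ (k + 1) • ⊤ := by
        rw [Submodule.map_smul'', pow_succ', ← smul_eq_mul, Submodule.smul_assoc]
        exact Submodule.smul_mono le_rfl (by rintro _ ⟨z, -, rfl⟩; exact ih z)
      rw [show (ε ^ (k + 1)) y = (ε ^ k) (ε y) by rw [pow_succ, Module.End.mul_apply]]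
      exact hmap (Submodule.mem_map_of_mem (hε y))
  have hnil : IsNilpotent ε := ⟨n, LinearMap.ext fun y => by
    have hbot : (L ^ n • ⊤ : Submodule A MJ) = ⊥ := by
      refine eq_bot_iff.2 (Submodule.smul_le.2 fun a ha z _ => ?_)
      obtain ⟨z, rfl⟩ := Submodule.Quotient.mk_surjective _ z
      rw [Submodule.mem_bot, ← Submodule.Quotient.mk_smul, Submodule.Quotient.mk_eq_zero]
      exact Submodule.smul_mem_smul (hn ha) trivial
    simpa [hbot] using hpow n y⟩
  obtain ⟨U, hU⟩ := hnil.isUnit_one_add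
  have hUT : (U : Module.End A MJ) = T := by
    rw [hU]
    show (1 : Module.End A MJ) + (T - LinearMap.id) = T
    exact add_sub_cancel _ _
  refine ⟨(↑U⁻¹ : Module.End A MJ) ∘ₗ w0, fun x => ?_⟩
  show (↑U⁻¹ : Module.End A MJ) (T (Submodule.Quotient.mk x)) = _
  rw [← hUT, ← Module.End.mul_apply, Units.inv_mul]
  rfl

end Groth.Agent.LeftInvLib
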