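import Mathlib

/-! Compatible systems of left inverses and their limit. -/

set_option autoImplicit false

universe u v w

open Filter Topology

namespace Groth.Agent.LeftInvLib

variable {A : Type u} [CommRing A] {M : Type v} [AddCommGroup M] [Module A M] {N : Type w} [AddCommGroup N] [Module A N]

theorem exists_lift_mod (C : Type w) [AddCommGroup C] [Module A C] (I J : Ideal A) (hIJ : I ≤ J)
    [Module.Projective (A ⧸ I) (C ⧸ (I • (⊤ : Submodule A C)))]
    (d : C →ₗ[A] M ⧸ (J • ⊤ : Submodule A M)) :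
    ∃ δ : C →ₗ[A] M ⧸ (I • ⊤ : Submodule A M),
      ∀ c, Submodule.factor (Submodule.smul_mono_left hIJ) (δ c) = d c := by
  have hd : (I • ⊤ : Submodule A C) ≤ LinearMap.ker d := Submodule.smul_le.2 fun a ha y _ => by
    rw [LinearMap.mem_ker, map_smul]
    obtain ⟨z, hz⟩ := Submodule.Quotient.mk_surjective (J • ⊤ : Submodule A M) (d y)
    rw [← hz, ← Submodule.Quotient.mk_smul, Submodule.Quotient.mk_eq_zero]
    exact Submodule.smul_mem_smul (hIJ ha) trivial
  letI : Module (A ⧸ I) (M ⧸ (J • ⊤ : Submodule A M)) :=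
    (show Module.IsTorsionBySet A (M ⧸ (J • ⊤ : Submodule A M)) (I : Set A) from fun z a => by
      obtain ⟨z, rfl⟩ := Submodule.Quotient.mk_surjective _ z
      rw [← Submodule.Quotient.mk_smul, Submodule.Quotient.mk_eq_zero]
      exact Submodule.smul_mem_smul (hIJ a.2) trivial).module
  haveI : IsScalarTower A (A ⧸ I) (M ⧸ (J • ⊤ : Submodule A M)) := Module.IsTorsionBySet.isScalarTower _
  let red : (M ⧸ (I • ⊤ : Submodule A M)) →ₗ[A] M ⧸ (J • ⊤ : Submodule A M) := Submodule.factor (Submodule.smul_mono_left hIJ)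
  let red' : (M ⧸ (I • ⊤ : Submodule A M)) →ₗ[A ⧸ I] M ⧸ (J • ⊤ : Submodule A M) :=
    red.extendScalarsOfSurjective Ideal.Quotient.mk_surjective
  let dA : (C ⧸ (I • ⊤ : Submodule A C)) →ₗ[A] M ⧸ (J • ⊤ : Submodule A M) := Submodule.liftQ _ d hd
  let d' : (C ⧸ (I • ⊤ : Submodule A C)) →ₗ[A ⧸ I] M ⧸ (J • ⊤ : Submodule A M) :=
    dA.extendScalarsOfSurjective Ideal.Quotient.mk_surjective
  have hsurj : Function.Surjective red := Submodule.factor_surjective _
  have hsurj' : Function.Surjective red' := hsurj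
  obtain ⟨δ, hδ⟩ := Module.projective_lifting_property red' d' hsurj'
  refine ⟨δ.restrictScalars A ∘ₗ (I • ⊤ : Submodule A C).mkQ, fun c => ?_⟩
  have h1 := LinearMap.congr_fun hδ ((I • ⊤ : Submodule A C).mkQ c)
  rw [LinearMap.comp_apply] at h1
  show red (δ ((I • ⊤ : Submodule A C).mkQ c)) = d c
  exact h1

theorem exists_next (u : M →ₗ[A] N) (I J : Ideal A) (hIJ : I ≤ J)
    (hP : Module.Projective (A ⧸ I)
      ((N ⧸ LinearMap.range u) ⧸ (I • (⊤ : Submodule A (N ⧸ LinearMap.range u)))))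
    (w : N →ₗ[A] M ⧸ (J • ⊤ : Submodule A M)) (hw : ∀ x, w (u x) = Submodule.Quotient.mk x)
    (w' : N →ₗ[A] M ⧸ (I • ⊤ : Submodule A M)) (hw' : ∀ x, w' (u x) = Submodule.Quotient.mk x) :
    ∃ v : N →ₗ[A] M ⧸ (I • ⊤ : Submodule A M), (∀ x, v (u x) = Submodule.Quotient.mk x) ∧
      Submodule.factor (Submodule.smul_mono_left hIJ) ∘ₗ v = w := by
  let red : (M ⧸ (I • ⊤ : Submodule A M)) →ₗ[A] M ⧸ (J • ⊤ : Submodule A M) :=
    Submodule.factor (Submodule.smul_mono_left hIJ)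
  obtain ⟨δ, hδ⟩ := exists_lift_mod (N ⧸ LinearMap.range u) I J hIJ
    (Submodule.liftQ _ (red ∘ₗ w' - w) (by
      rintro _ ⟨x, rfl⟩
      rw [LinearMap.mem_ker, LinearMap.sub_apply, LinearMap.comp_apply, hw', hw]
      exact sub_self (Submodule.Quotient.mk x : M ⧸ (J • ⊤ : Submodule A M))))
  refine ⟨w' - δ ∘ₗ (LinearMap.range u).mkQ, fun x => ?_, LinearMap.ext fun y => ?_⟩
  · rw [LinearMap.sub_apply, LinearMap.comp_apply, hw',
      show (LinearMap.range u).mkQ (u x) = 0 from (Submodule.Quotient.mk_eq_zero _).2 ⟨x, rfl⟩, map_zero, sub_zero]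
  · rw [LinearMap.comp_apply, LinearMap.sub_apply, LinearMap.comp_apply, map_sub, hδ]
    show red (w' y) - (red (w' y) - w y) = w y
    exact sub_sub_cancel _ _

theorem exists_leftInverse_of_limit (𝔍 : ℕ → Ideal A) [UniformSpace M] [IsUniformAddGroup M] [CompleteSpace M]
    [T2Space M] (hbasis : (𝓝 (0 : M)).HasBasis (fun _ : ℕ => True) fun n => ((𝔍 n • ⊤ : Submodule A M) : Set M))
    (hanti : Antitone 𝔍) (u : M →ₗ[A] N)
    (hP : ∀ n, Module.Projective (A ⧸ 𝔍 n)
      ((N ⧸ LinearMap.range u) ⧸ (𝔍 n • (⊤ : Submodule A (N ⧸ LinearMap.range u)))))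
    (h : ∀ n, ∃ w : N →ₗ[A] M ⧸ (𝔍 n • ⊤ : Submodule A M), ∀ x, w (u x) = Submodule.Quotient.mk x) :
    ∃ w : N →ₗ[A] M, ∀ x, w (u x) = x := by
  have step : ∀ n (w : {w : N →ₗ[A] M ⧸ (𝔍 n • ⊤ : Submodule A M) // ∀ x, w (u x) = Submodule.Quotient.mk x}),
      ∃ v : {w : N →ₗ[A] M ⧸ (𝔍 (n + 1) • ⊤ : Submodule A M) // ∀ x, w (u x) = Submodule.Quotient.mk x},
        Submodule.factor (Submodule.smul_mono_left (hanti n.le_succ)) ∘ₗ v.1 = w.1 := fun n w => by
    obtain ⟨w', hw'⟩ := h (n + 1)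
    obtain ⟨v, hv, hv'⟩ := exists_next u _ _ (hanti n.le_succ) (hP (n + 1)) w.1 w.2 w' hw'
    exact ⟨⟨v, hv⟩, hv'⟩
  choose f hf using step
  let ws : ∀ n, {w : N →ₗ[A] M ⧸ (𝔍 n • ⊤ : Submodule A M) // ∀ x, w (u x) = Submodule.Quotient.mk x} :=
    fun n => Nat.rec ⟨(h 0).choose, (h 0).choose_spec⟩ f n
  have hcomp : ∀ n y, Submodule.factor (Submodule.smul_mono_left (hanti n.le_succ)) ((ws (n + 1)).1 y) = (ws n).1 y :=
    fun n y => LinearMap.congr_fun (hf n (ws n)) y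
  have huniq : ∀ z z' : M, (∀ n, (Submodule.Quotient.mk z : M ⧸ (𝔍 n • ⊤ : Submodule A M)) = Submodule.Quotient.mk z') →
      z = z' := fun z z' hz => by
    rw [← sub_eq_zero]
    by_contra hne
    obtain ⟨U, hU, hzU⟩ : ∃ U ∈ 𝓝 (0 : M), z - z' ∉ U :=
      ⟨{z - z'}ᶜ, isClosed_singleton.isOpen_compl.mem_nhds (Ne.symm hne), fun h => h rfl⟩
    obtain ⟨n, -, hn⟩ := hbasis.mem_iff.1 hU
    exact hzU (hn ((Submodule.Quotient.eq _).1 (hz n)))
  have hex : ∀ y, ∃ z : M, ∀ n, (Submodule.Quotient.mk z : M ⧸ (𝔍 n • ⊤ : Submodule A M)) = (ws n).1 y := fun y => by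
    choose x hx using fun n => Submodule.Quotient.mk_surjective (𝔍 n • ⊤ : Submodule A M) ((ws n).1 y)
    have hsub : ∀ n m, n ≤ m → x m - x n ∈ (𝔍 n • ⊤ : Submodule A M) := by
      intro n m hnm
      induction m, hnm using Nat.le_induction with
      | base => rw [sub_self]; exact zero_mem _
      | succ m hnm ih =>
        rw [← sub_add_sub_cancel (x (m + 1)) (x m) (x n)]
        refine add_mem (Submodule.smul_mono_left (hanti hnm) ((Submodule.Quotient.eq _).1 ?_)) ih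
        have h1 := hcomp m y
        rw [← hx (m + 1), ← hx m] at h1
        exact h1
    have hcau : CauchySeq x := by
      refine ⟨inferInstance, ?_⟩
      rw [uniformity_eq_comap_nhds_zero, ← tendsto_iff_comap]
      intro U hU
      obtain ⟨n, -, hn⟩ := hbasis.mem_iff.1 hU
      rw [Filter.mem_map, Filter.mem_prod_iff]
      refine ⟨x '' Set.Ici n, image_mem_map (Ici_mem_atTop n), x '' Set.Ici n, image_mem_map (Ici_mem_atTop n), ?_⟩
      rintro ⟨_, _⟩ ⟨⟨a, ha, rfl⟩, ⟨b, hb, rfl⟩⟩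
      refine hn ?_
      show x b - x a ∈ (𝔍 n • ⊤ : Submodule A M)
      rw [← sub_sub_sub_cancel_right (x b) (x a) (x n)]
      exact sub_mem (hsub n b hb) (hsub n a ha)
    obtain ⟨z, hz⟩ := cauchySeq_tendsto_of_complete hcau
    refine ⟨z, fun n => ?_⟩
    rw [← hx n, Submodule.Quotient.eq]
    have hclosed : IsClosed (((𝔍 n • ⊤ : Submodule A M).toAddSubgroup : AddSubgroup M) : Set M) :=
      AddSubgroup.isClosed_of_isOpen _ (AddSubgroup.isOpen_of_mem_nhds _ (hbasis.mem_of_mem trivial))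
    exact hclosed.mem_of_tendsto (hz.sub_const (x n)) ((eventually_ge_atTop n).mono fun m hm => hsub n m hm)
  choose z hz using hex
  refine ⟨{ toFun := z, map_add' := fun a b => huniq _ _ fun n => ?_, map_smul' := fun c a => huniq _ _ fun n => ?_ },
    fun x => huniq _ _ fun n => ?_⟩
  · rw [Submodule.Quotient.mk_add, hz, hz, hz, map_add]
  · rw [RingHom.id_apply, Submodule.Quotient.mk_smul, hz, hz, map_smul]
  · show Submodule.Quotient.mk (z (u x)) = _
    rw [hz, (ws n).2]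

end Groth.Agent.LeftInvLib
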